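import Groth.Prelude.Def_W4bk4git07Quot
import Groth.Agent.Lib.FlatFactor.Orbit
import Groth.Agent.Lib.Induce27.QuotAffine
import Groth.Agent.Lib.GrpSchField.Field
import Groth.Agent.S0414
import Mathlib.AlgebraicGeometry.IdealSheaf.Subscheme
import Mathlib.AlgebraicGeometry.Morphisms.FlatDescent

/-!
# Properness of orbit maps
-/

universe u

open CategoryTheory CategoryTheory.Limits MonoidalCategory CartesianMonoidalCategory MonObj GrpObj
open AlgebraicGeometry TopologicalSpace

namespace GrothLib.OrbitProper27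

/-- Universal closedness of a flat surjective base change of a morphism which is universally closed
over its own source. -/
theorem universallyClosed_snd {A B C : Scheme.{u}} (f : A ⟶ B) (j : C ⟶ B)
    (hff : UniversallyClosed (pullback.snd f f)) [Flat (pullback.snd f j)]
    [Surjective (pullback.snd f j)] [QuasiCompact (pullback.snd f j)] :
    UniversallyClosed (pullback.snd f j) := by
  let q := pullback.snd f j
  let p := pullback.fst f j
  have h1 : IsPullback (pullback.fst q q ≫ p) (pullback.snd q q) f (p ≫ f) := by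
    rw [show p ≫ f = q ≫ j from pullback.condition]
    exact (IsPullback.of_hasPullback q q).paste_horiz (IsPullback.of_hasPullback f j)
  have hbig := IsPullback.of_hasPullback f f
  let m : pullback q q ⟶ pullback f f := hbig.lift (pullback.fst q q ≫ p) (pullback.snd q q ≫ p)
    (by rw [h1.w, Category.assoc])
  have h2 : IsPullback m (pullback.snd q q) (pullback.snd f f) p := by
    refine IsPullback.of_right ?_ (hbig.lift_snd _ _ _) hbig
    rw [hbig.lift_fst]
    exact h1
  have h3 : UniversallyClosed (pullback.snd q q) := MorphismProperty.of_isPullback h2 hff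
  exact MorphismProperty.of_pullback_snd_of_descendsAlong
    (Q := @Surjective ⊓ @Flat ⊓ @QuasiCompact) (f := q) (g := q)
    ⟨⟨inferInstance, inferInstance⟩, inferInstance⟩ h3

/-- A morphism with closed range which is universally closed over a non-empty open of the range
by descent. -/
theorem exists_open_universallyClosed {A B : Scheme.{u}} (f : A ⟶ B) [LocallyOfFiniteType f] [QuasiCompact f]
    (hc : IsClosed (Set.range f.base)) [Nonempty A] (hff : UniversallyClosed (pullback.snd f f)) :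
    ∃ N : B.Opens, (∃ b ∈ N, b ∈ Set.range f.base) ∧ UniversallyClosed (f ∣_ N) := by
  let I := Scheme.IdealSheafData.vanishingIdeal (X := B) ⟨Set.range f.base, hc⟩
  let r0 := I.subschemeι
  have hr : Set.range r0.base = Set.range f.base := by
    rw [Scheme.IdealSheafData.range_subschemeι]
    simp [I]
  haveI : IsReduced I.subscheme := GrothLib.RedSub.isReduced_subscheme_vanishingIdeal _
  obtain ⟨U, hUd, hUf, -⟩ := Groth.Agent.S0414.result (pullback.snd f r0)
  haveI : Nonempty I.subscheme := by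
    obtain ⟨z, -⟩ := hr.ge ⟨Classical.arbitrary A, rfl⟩
    exact ⟨z⟩
  obtain ⟨z, hzU⟩ := hUd.nonempty
  obtain ⟨N', hN', hNU⟩ := r0.isEmbedding.isOpen_iff.1 U.2
  let N : B.Opens := ⟨N', hN'⟩
  have hU : r0 ⁻¹ᵁ N = U := Opens.ext hNU
  subst hU
  refine ⟨N, ⟨r0 z, hzU, hr.le ⟨z, rfl⟩⟩, ?_⟩
  let j0 := r0 ∣_ N
  let V := r0 ⁻¹ᵁ N
  -- the pullback along `V ⟶ B`
  have hsq : IsPullback (pullback.fst f r0) (pullback.snd f r0) f r0 := IsPullback.of_hasPullback f r0
  have hflat : IsPullback (((pullback.snd f r0) ⁻¹ᵁ V).ι ≫ pullback.fst f r0) ((pullback.snd f r0) ∣_ V) f (V.ι ≫ r0) :=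
    (isPullback_morphismRestrict (pullback.snd f r0) V).flip.paste_horiz hsq
  haveI : Surjective (pullback.snd f r0) := ⟨fun w => by
    obtain ⟨x, hx⟩ := hr.le ⟨w, rfl⟩
    obtain ⟨p, -, hp⟩ := Scheme.Pullback.exists_preimage_pullback (f := f) (g := r0) x w hx
    exact ⟨p, hp⟩⟩
  haveI h1 : Flat (pullback.snd f (V.ι ≫ r0)) := by
    rw [← hflat.isoPullback_inv_snd]; infer_instance
  haveI : Surjective ((pullback.snd f r0) ∣_ V) :=
    MorphismProperty.of_isPullback (P := @Surjective) (isPullback_morphismRestrict (pullback.snd f r0) V).flip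
      inferInstance
  haveI h2 : Surjective (pullback.snd f (V.ι ≫ r0)) := by
    rw [← hflat.isoPullback_inv_snd]; infer_instance
  have huc := universallyClosed_snd f (V.ι ≫ r0) hff
  -- `f ⁻¹ N` is dominated by the pullback
  let s : pullback f (V.ι ≫ r0) ⟶ (f ⁻¹ᵁ N).toScheme := (isPullback_morphismRestrict f N).flip.lift
    (pullback.fst f (V.ι ≫ r0)) (pullback.snd f (V.ι ≫ r0) ≫ j0)
    (by rw [pullback.condition, Category.assoc, morphismRestrict_ι])
  have hs : s ≫ (f ∣_ N) = pullback.snd f (V.ι ≫ r0) ≫ j0 := IsPullback.lift_snd _ _ _ _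
  haveI : Surjective s := ⟨fun x => by
    obtain ⟨w, hw⟩ := hr.ge ⟨x.1, rfl⟩
    have hwV : w ∈ V := show r0 w ∈ N from hw ▸ x.2
    obtain ⟨p, hp1, -⟩ := Scheme.Pullback.exists_preimage_pullback (f := f) (g := V.ι ≫ r0) x.1 ⟨w, hwV⟩ hw.symm
    refine ⟨p, Subtype.ext ?_⟩
    show ((f ⁻¹ᵁ N).ι) (s p) = x.1
    rw [← Scheme.Hom.comp_apply, IsPullback.lift_fst]
    exact hp1⟩
  haveI : IsClosedImmersion j0 :=
    MorphismProperty.of_isPullback (isPullback_morphismRestrict r0 N).flip inferInstance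
  haveI : UniversallyClosed (s ≫ (f ∣_ N)) := by rw [hs]; infer_instance
  exact UniversallyClosed.of_comp_surjective s (f ∣_ N)

variable {k : Type u} [Field k] [IsAlgClosed k] {G X : Over (Spec (CommRingCat.of k))} [GrpObj G]

/-- Translations by rational points. -/
theorem universallyClosed_translate (a : AlgGrp.Action G X) (x g : 𝟙_ (Over (Spec (CommRingCat.of k))) ⟶ G)
    (ξ : 𝟙_ (Over (Spec (CommRingCat.of k))) ⟶ X) (N : X.left.Opens)
    (h : UniversallyClosed ((a.orbitMap ξ).left ∣_ N)) :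
    UniversallyClosed ((a.orbitMap ξ).left ∣_
      ((lift (toUnit X ≫ g) (𝟙 X) ≫ a.act).left ⁻¹ᵁ N)) := by
  let τ : ∀ g : 𝟙_ (Over (Spec (CommRingCat.of k))) ⟶ G, X ⟶ X := fun g => lift (toUnit X ≫ g) (𝟙 X) ≫ a.act
  let L : ∀ g : 𝟙_ (Over (Spec (CommRingCat.of k))) ⟶ G, G ⟶ G := fun g => (toUnit G ≫ g) * 𝟙 G
  have hτ : ∀ g h, τ g ≫ τ h = τ (h * g) := by
    intro g h
    simp only [τ]
    rw [comp_lift_assoc, Category.comp_id, ← Category.assoc _ (toUnit X) h, comp_toUnit, MonObj.comp_mul,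
      GrothLib.DiagGrp.act_mul]
  have hL : ∀ g h, L g ≫ L h = L (h * g) := by
    intro g h
    simp only [L]
    rw [MonObj.comp_mul, ← Category.assoc _ (toUnit G) h, comp_toUnit, Category.comp_id, MonObj.comp_mul, _root_.mul_assoc]
  have hτ1 : τ 1 = 𝟙 X := by
    simp only [τ]
    rw [MonObj.comp_one, GrothLib.DiagGrp.act_one]
  have hL1 : L 1 = 𝟙 G := by
    simp only [L]
    rw [MonObj.comp_one, _root_.one_mul]
  haveI : IsIso (τ g).left := ⟨(τ g⁻¹).left, by rw [← Over.comp_left, hτ, inv_mul_cancel, hτ1]; rfl,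
    by rw [← Over.comp_left, hτ, mul_inv_cancel, hτ1]; rfl⟩
  haveI : IsIso (L g).left := ⟨(L g⁻¹).left, by rw [← Over.comp_left, hL, inv_mul_cancel, hL1]; rfl,
    by rw [← Over.comp_left, hL, mul_inv_cancel, hL1]; rfl⟩
  have hcomm : L g ≫ a.orbitMap ξ = a.orbitMap ξ ≫ τ g := by
    simp only [L, τ]
    rw [GrothLib.FlatFactor.comp_orbitMap, comp_lift_assoc, Category.comp_id,
      ← Category.assoc (a.orbitMap ξ) (toUnit X) g, comp_toUnit, GrothLib.DiagGrp.act_mul]
    conv_rhs => rw [← Category.id_comp (a.orbitMap ξ), GrothLib.FlatFactor.comp_orbitMap]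
  have hN : UniversallyClosed (((L g).left ≫ (a.orbitMap ξ).left) ∣_ N) := by
    rw [morphismRestrict_comp]
    haveI := h
    haveI : IsIso ((L g).left ∣_ (a.orbitMap ξ).left ⁻¹ᵁ N) := inferInstance
    exact MorphismProperty.comp_mem _ _ _ inferInstance h
  rw [show (L g).left ≫ (a.orbitMap ξ).left = (a.orbitMap ξ).left ≫ (τ g).left from
    congrArg CommaMorphism.left hcomm, morphismRestrict_comp] at hN
  exact (MorphismProperty.cancel_right_of_respectsIso @UniversallyClosed _ ((τ g).left ∣_ N)).1 hN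

variable [LocallyOfFiniteType G.hom] [QuasiCompact G.hom] [LocallyOfFiniteType X.hom]

/-- An orbit map with closed image and proper stabiliser is proper. -/
theorem isProper_orbitMap (a : AlgGrp.Action G X) (ξ : 𝟙_ (Over (Spec (CommRingCat.of k))) ⟶ X)
    (hc : IsClosed (Set.range (a.orbitMap ξ).left.base))
    (hst : IsProper (pullback.snd (a.orbitMap ξ).left ξ.left ≫ (𝟙_ (Over (Spec (CommRingCat.of k)))).hom)) :
    IsProper (a.orbitMap ξ).left := by
  let f := (a.orbitMap ξ).left
  haveI : IsLocallyNoetherian X.left := LocallyOfFiniteType.isLocallyNoetherian X.hom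
  haveI : IsSeparated G.hom := GrothLib.GrpSchField.isSeparated G
  haveI : LocallyOfFiniteType (f ≫ X.hom) := by rw [Over.w]; infer_instance
  haveI : LocallyOfFiniteType f := locallyOfFiniteType_of_comp f X.hom
  haveI : QuasiCompact (f ≫ X.hom) := by rw [Over.w]; infer_instance
  haveI : QuasiCompact f := QuasiCompact.of_comp f X.hom
  haveI : IsSeparated (f ≫ X.hom) := by rw [Over.w]; infer_instance
  haveI : IsSeparated f := IsSeparated.of_comp f X.hom
  haveI : JacobsonSpace X.left := LocallyOfFiniteType.jacobsonSpace X.hom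
  haveI : JacobsonSpace G.left := LocallyOfFiniteType.jacobsonSpace G.hom
  -- the stabiliser
  let H : Over (Spec (CommRingCat.of k)) :=
    Over.mk (pullback.snd f ξ.left ≫ (𝟙_ (Over (Spec (CommRingCat.of k)))).hom)
  let h : H ⟶ G := Over.homMk (pullback.fst f ξ.left) (by
    show _ = pullback.snd f ξ.left ≫ _
    rw [← Over.w (a.orbitMap ξ), pullback.condition_assoc, Over.w ξ])
  let t : H ⟶ 𝟙_ (Over (Spec (CommRingCat.of k))) := Over.homMk (pullback.snd f ξ.left) rfl
  have hH : IsPullback h (toUnit H) (a.orbitMap ξ) ξ := by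
    rw [toUnit_unique (toUnit H) t]
    exact IsPullback.of_map (Over.forget _) (Over.OverMorphism.ext pullback.condition)
      (IsPullback.of_hasPullback f ξ.left)
  have hfst : UniversallyClosed (fst G H).left :=
    MorphismProperty.pullback_fst (P := @UniversallyClosed) G.hom H.hom hst.toUniversallyClosed
  have hff : UniversallyClosed (pullback.snd f f) := by
    have sq : IsPullback ((G ◁ h) ≫ μ[G]).left (fst G H).left f f :=
      (GrothLib.FlatFactor.orbit_isPullback a ξ h hH).map (Over.forget _)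
    rw [← sq.isoPullback_inv_snd]
    exact (MorphismProperty.cancel_left_of_respectsIso @UniversallyClosed _ _).2 hfst
  haveI : Nonempty G.left := ⟨(η[G]).left.base (IsLocalRing.closedPoint k)⟩
  obtain ⟨N, ⟨b, hbN, hb⟩, hN⟩ := exists_open_universallyClosed f hc hff
  -- a rational point of the orbit in `N`
  obtain ⟨b₁, ⟨hb₁O, hb₁N⟩, hb₁⟩ := nonempty_inter_closedPoints (Z := Set.range f.base ∩ (N : Set X.left))
    ⟨b, hb, hbN⟩ (hc.isLocallyClosed.inter N.2.isLocallyClosed)
  obtain ⟨g₁, hg₁, hg₁c⟩ := nonempty_inter_closedPoints (Z := f.base ⁻¹' {b₁}) hb₁O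
    (hb₁.preimage f.continuous).isLocallyClosed
  let pt : ∀ z : G.left, z ∈ closedPoints G.left → (𝟙_ (Over (Spec (CommRingCat.of k))) ⟶ G) := fun z hz =>
    Over.homMk (pointOfClosedPoint G.hom z hz) (pointOfClosedPoint_comp G.hom z hz)
  have hpt : ∀ z hz, (pt z hz).left.base (IsLocalRing.closedPoint k) = z := fun z hz =>
    pointOfClosedPoint_apply G.hom z hz _
  let W : Option {z : G.left // z ∈ closedPoints G.left} → X.left.Opens := fun o => o.elim
    ⟨(Set.range f.base)ᶜ, hc.isOpen_compl⟩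
    fun z => (lift (toUnit X ≫ (pt g₁ hg₁c * (pt z.1 z.2)⁻¹)) (𝟙 X) ≫ a.act).left ⁻¹ᵁ N
  have hcover : iSup W = ⊤ := by
    refine top_le_iff.1 fun y _ => ?_
    by_cases hy : y ∈ Set.range f.base
    swap
    · exact Opens.mem_iSup.2 ⟨none, hy⟩
    obtain ⟨y₁, hy₁, hy₁c⟩ := nonempty_inter_closedPoints (Z := closure ({y} : Set X.left))
      ⟨y, subset_closure rfl⟩ isClosed_closure.isLocallyClosed
    have hy₁O : y₁ ∈ Set.range f.base := hc.closure_subset_iff.2 (Set.singleton_subset_iff.2 hy) hy₁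
    obtain ⟨g₀, hg₀, hg₀c⟩ := nonempty_inter_closedPoints (Z := f.base ⁻¹' {y₁}) hy₁O
      (hy₁c.preimage f.continuous).isLocallyClosed
    refine Opens.mem_iSup.2 ⟨some ⟨g₀, hg₀c⟩, ?_⟩
    refine (specializes_iff_mem_closure.2 hy₁).mem_open (Opens.isOpen _) ?_
    show (lift (toUnit X ≫ (pt g₁ hg₁c * (pt g₀ hg₀c)⁻¹)) (𝟙 X) ≫ a.act).left.base y₁ ∈ N
    have e : pt g₀ hg₀c ≫ a.orbitMap ξ ≫ lift (toUnit X ≫ (pt g₁ hg₁c * (pt g₀ hg₀c)⁻¹)) (𝟙 X) ≫ a.act =
        pt g₁ hg₁c ≫ a.orbitMap ξ := by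
      rw [← Category.assoc, GrothLib.FlatFactor.comp_orbitMap, comp_lift_assoc, Category.comp_id,
        ← Category.assoc _ (toUnit X), comp_toUnit, toUnit_unique (toUnit _) (𝟙 _), Category.id_comp,
        Category.id_comp, ← GrothLib.DiagGrp.act_mul, inv_mul_cancel_right, GrothLib.FlatFactor.comp_orbitMap,
        toUnit_unique (toUnit _) (𝟙 _), Category.id_comp]
    have e' := congrArg (fun v : 𝟙_ (Over (Spec (CommRingCat.of k))) ⟶ X =>
      v.left.base (IsLocalRing.closedPoint k)) e
    simp only [Over.comp_left, Scheme.Hom.comp_apply, hpt] at e'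
    rw [← show f.base g₀ = y₁ from hg₀]
    rw [Over.comp_left, Scheme.Hom.comp_apply]
    refine e' ▸ ?_
    rw [show (a.orbitMap ξ).left g₁ = b₁ from hg₁]
    exact hb₁N
  haveI : UniversallyClosed f := by
    refine IsZariskiLocalAtTarget.of_iSup_eq_top W hcover ?_
    rintro (_ | z)
    · haveI : IsEmpty (f ⁻¹ᵁ W none).toScheme := ⟨fun p => p.2 ⟨p.1, rfl⟩⟩
      haveI : IsOpenImmersion (f ∣_ W none) := inferInstance
      haveI : IsClosedImmersion (f ∣_ W none) := .of_isPreimmersion _ (by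
        rw [Set.range_eq_empty]; exact isClosed_empty)
      infer_instance
    · exact universallyClosed_translate a (pt g₁ hg₁c) _ ξ N hN
  constructor

end GrothLib.OrbitProper27
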